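import Groth.Agent.ML.Module
import Mathlib.RingTheory.Flat.EquationalCriterion
import Mathlib.RingTheory.Ideal.Quotient.Operations
import Mathlib.LinearAlgebra.TensorProduct.Quotient

/-! Pure (universally injective) maps and flatness. -/

set_option autoImplicit false

universe u

namespace Groth.Agent.ML.Pure

open TensorProduct

variable {R : Type u} [CommRing R] {M₁ M₂ M : Type u} [AddCommGroup M₁] [Module R M₁]
  [AddCommGroup M₂] [Module R M₂] [AddCommGroup M] [Module R M]

theorem injective_of_universallyInjective {f : M₁ →ₗ[R] M₂} (hf : CAlgX.UniversallyInjective R f) :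
    Function.Injective f := fun x y hxy => by
  have h1 : x ⊗ₜ[R] (1 : R) = y ⊗ₜ[R] (1 : R) := hf R (by simp [hxy])
  simpa using congrArg (TensorProduct.rid R M₁) h1

/-- A short exact sequence ending in a flat module is universally exact. -/
theorem universallyInjective_of_flat (f : M₁ →ₗ[R] M₂) (g : M₂ →ₗ[R] M) (hf : Function.Injective f)
    (hfg : Function.Exact f g) (hg : Function.Surjective g) [_root_.Module.Flat R M] :
    CAlgX.UniversallyInjective R f := by
  classical
  intro Q _ _
  rw [injective_iff_map_eq_zero]
  intro z hz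
  obtain ⟨F, _, _, _, π, hπ⟩ : ∃ (F : Type u) (_ : AddCommGroup F) (_ : Module R F)
      (_ : _root_.Module.Flat R F) (π : F →ₗ[R] Q), Function.Surjective π :=
    ⟨Q →₀ R, inferInstance, inferInstance, inferInstance, Finsupp.linearCombination R id,
      Finsupp.linearCombination_surjective R Function.surjective_id⟩
  obtain ⟨w, rfl⟩ := LinearMap.lTensor_surjective M₁ hπ z
  have hex : ∀ (X : Type u) [AddCommGroup X] [Module R X],
      Function.Exact ((LinearMap.ker π).subtype.lTensor X) (π.lTensor X) := fun X _ _ =>
    lTensor_exact X (M := LinearMap.ker π) (LinearMap.exact_subtype_ker_map π) hπ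
  obtain ⟨k, hk⟩ := (hex M₂ (f.rTensor _ w)).mp (by
    rw [← LinearMap.comp_apply, LinearMap.lTensor_comp_rTensor, ← LinearMap.rTensor_comp_lTensor,
      LinearMap.comp_apply, hz])
  have hgk : g.rTensor _ k = 0 := by
    apply _root_.Module.Flat.lTensor_preserves_injective_linearMap (M := M)
      (LinearMap.ker π).subtype (LinearMap.ker π).injective_subtype
    rw [map_zero, ← LinearMap.comp_apply, LinearMap.lTensor_comp_rTensor,
      ← LinearMap.rTensor_comp_lTensor, LinearMap.comp_apply, hk, ← LinearMap.rTensor_comp_apply,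
      hfg.linearMap_comp_eq_zero, LinearMap.rTensor_zero, LinearMap.zero_apply]
  obtain ⟨k', rfl⟩ := (rTensor_exact _ hfg hg k).mp hgk
  have hw : w = (LinearMap.ker π).subtype.lTensor M₁ k' := by
    apply _root_.Module.Flat.rTensor_preserves_injective_linearMap (M := F) f hf
    rw [← hk, ← LinearMap.comp_apply, LinearMap.lTensor_comp_rTensor,
      ← LinearMap.rTensor_comp_lTensor, LinearMap.comp_apply]
  rw [hw]
  exact (hex M₁).apply_apply_eq_zero k'

/-- The cokernel of a universally injective map into a flat module is flat. -/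
theorem flat_of_universallyInjective (f : M₁ →ₗ[R] M₂) (g : M₂ →ₗ[R] M)
    (hfg : Function.Exact f g) (hg : Function.Surjective g) (hf : CAlgX.UniversallyInjective R f)
    [_root_.Module.Flat R M₂] : _root_.Module.Flat R M := by
  rw [_root_.Module.Flat.iff_lTensor_preserves_injective_linearMap]
  intro N P _ _ _ _ h hh
  rw [injective_iff_map_eq_zero]
  intro x hx
  obtain ⟨w, rfl⟩ := LinearMap.rTensor_surjective N hg x
  obtain ⟨k, hk⟩ := (rTensor_exact P hfg hg (h.lTensor M₂ w)).mp (by
    rw [← LinearMap.comp_apply, LinearMap.rTensor_comp_lTensor, ← LinearMap.lTensor_comp_rTensor,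
      LinearMap.comp_apply, hx])
  have hex : ∀ (X : Type u) [AddCommGroup X] [Module R X],
      Function.Exact (h.lTensor X) ((LinearMap.range h).mkQ.lTensor X) := fun X _ _ =>
    lTensor_exact X (LinearMap.exact_map_mkQ_range h) (LinearMap.range h).mkQ_surjective
  have hk0 : (LinearMap.range h).mkQ.lTensor M₁ k = 0 := by
    apply hf
    rw [map_zero, ← LinearMap.comp_apply, LinearMap.rTensor_comp_lTensor,
      ← LinearMap.lTensor_comp_rTensor, LinearMap.comp_apply, hk]
    exact (hex M₂).apply_apply_eq_zero w
  obtain ⟨k', rfl⟩ := (hex M₁ k).mp hk0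
  have hw : f.rTensor N k' = w := by
    apply _root_.Module.Flat.lTensor_preserves_injective_linearMap (M := M₂) h hh
    rw [← hk, ← LinearMap.comp_apply, LinearMap.lTensor_comp_rTensor,
      ← LinearMap.rTensor_comp_lTensor, LinearMap.comp_apply]
  rw [← hw]
  exact (rTensor_exact N hfg hg).apply_apply_eq_zero k'

/-- A module universally injecting into a flat module is flat. -/
theorem flat_left (f : M₁ →ₗ[R] M₂) (hf : CAlgX.UniversallyInjective R f) [_root_.Module.Flat R M₂] :
    _root_.Module.Flat R M₁ := by
  rw [_root_.Module.Flat.iff_lTensor_preserves_injective_linearMap]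
  intro N P _ _ _ _ h hh x y hxy
  apply hf N
  apply _root_.Module.Flat.lTensor_preserves_injective_linearMap (M := M₂) h hh
  rw [← LinearMap.comp_apply (h.lTensor M₂), ← LinearMap.comp_apply (h.lTensor M₂),
    LinearMap.lTensor_comp_rTensor, ← LinearMap.rTensor_comp_lTensor,
    LinearMap.comp_apply, LinearMap.comp_apply, hxy]

theorem mult_injective_iff (M : Type u) [AddCommGroup M] [Module R M] :
    _root_.Module.Flat R M ↔ ∀ I : Ideal R, I.FG → Function.Injective (I.subtype.lTensor M) := by
  rw [_root_.Module.Flat.iff_lTensor_injective]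

/-- Universal injectivity into a flat module is detected by cyclic finitely presented modules. -/
theorem universallyInjective_of_quotient [_root_.Module.Flat R M₂] (f : M₁ →ₗ[R] M₂)
    (h : ∀ I : Ideal R, I.FG → Function.Injective (f.rTensor (R ⧸ I))) :
    CAlgX.UniversallyInjective R f := by
  have hf : Function.Injective f := by
    intro x y hxy
    let e := (Submodule.quotEquivOfEqBot (⊥ : Ideal R) rfl)
    have h1 : x ⊗ₜ[R] (Ideal.Quotient.mk (⊥ : Ideal R) 1) = y ⊗ₜ[R] (Ideal.Quotient.mk (⊥ : Ideal R) 1) :=
      h ⊥ Submodule.fg_bot (by simp [hxy])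
    have h2 := congrArg (TensorProduct.rid R M₁ ∘ e.toLinearMap.lTensor M₁) h1
    have he : e (Ideal.Quotient.mk (⊥ : Ideal R) 1) = 1 := rfl
    have he' : e (1 : R ⧸ (⊥ : Ideal R)) = 1 := he
    simpa [he'] using h2
  let g := (LinearMap.range f).mkQ
  have hfg : Function.Exact f g := LinearMap.exact_map_mkQ_range f
  have hg : Function.Surjective g := (LinearMap.range f).mkQ_surjective
  haveI : _root_.Module.Flat R (M₂ ⧸ LinearMap.range f) := by
    rw [mult_injective_iff]
    intro I hI
    rw [injective_iff_map_eq_zero]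
    intro c hc
    obtain ⟨w, rfl⟩ := LinearMap.rTensor_surjective I hg c
    obtain ⟨m, hm⟩ := (rTensor_exact R hfg hg (I.subtype.lTensor M₂ w)).mp (by
      rw [← LinearMap.comp_apply, LinearMap.rTensor_comp_lTensor, ← LinearMap.lTensor_comp_rTensor,
        LinearMap.comp_apply, hc])
    have hex : ∀ (X : Type u) [AddCommGroup X] [Module R X],
        Function.Exact (I.subtype.lTensor X) ((Submodule.mkQ I).lTensor X) := fun X _ _ =>
      lTensor_exact X (LinearMap.exact_subtype_mkQ I) (Submodule.mkQ_surjective I)
    obtain ⟨v, rfl⟩ := (hex M₁ m).mp (h I hI (by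
      rw [map_zero, ← LinearMap.comp_apply, LinearMap.rTensor_comp_lTensor,
        ← LinearMap.lTensor_comp_rTensor, LinearMap.comp_apply, hm]
      exact (hex M₂).apply_apply_eq_zero w))
    have hw : f.rTensor I v = w := by
      apply _root_.Module.Flat.lTensor_preserves_injective_linearMap (M := M₂) I.subtype I.injective_subtype
      rw [← hm, ← LinearMap.comp_apply, LinearMap.lTensor_comp_rTensor,
        ← LinearMap.rTensor_comp_lTensor, LinearMap.comp_apply]
    rw [← hw]
    exact (rTensor_exact I hfg hg).apply_apply_eq_zero v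
  exact universallyInjective_of_flat f g hf hfg hg

end Groth.Agent.ML.Pure
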