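import Groth.Agent.ML.Module
import Mathlib.RingTheory.TensorProduct.Basic
import Mathlib.RingTheory.Flat.FaithfullyFlat.Algebra

/-! Mittag-Leffler modules and change of rings. -/

set_option autoImplicit false

universe u v

namespace Groth.Agent.ML.BaseChange

open TensorProduct

variable {R : Type u} [CommRing R] (S : Type u) [CommRing S] [Algebra R S]

section extend

variable (M : Type u) [AddCommGroup M] [Module R M] {ι : Type v} (Q : ι → Type u)
  [∀ i, AddCommGroup (Q i)] [∀ i, Module S (Q i)] [∀ i, Module R (Q i)] [∀ i, IsScalarTower R S (Q i)]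

/-- `(S ⊗ M) ⊗_S X ≅ M ⊗_R X` -/
noncomputable def extendEquiv (X : Type*) [AddCommGroup X] [Module S X] [Module R X] [IsScalarTower R S X] :
    (S ⊗[R] M) ⊗[S] X ≃+ M ⊗[R] X :=
  ((TensorProduct.comm S (S ⊗[R] M) X).toAddEquiv.trans
    (AlgebraTensorModule.cancelBaseChange R S S X M).toAddEquiv).trans (TensorProduct.comm R X M).toAddEquiv

@[simp] theorem extendEquiv_tmul (X : Type*) [AddCommGroup X] [Module S X] [Module R X] [IsScalarTower R S X]
    (s : S) (m : M) (x : X) : extendEquiv S M X ((s ⊗ₜ m) ⊗ₜ x) = m ⊗ₜ[R] (s • x) := by
  simp [extendEquiv]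

theorem injective_piRightHom_iff :
    Function.Injective (piRightHom S S (S ⊗[R] M) Q) ↔ Function.Injective (piRightHom R R M Q) := by
  have h : ∀ z, (fun i => extendEquiv S M (Q i) (piRightHom S S (S ⊗[R] M) Q z i)) =
      piRightHom R R M Q (extendEquiv S M (∀ i, Q i) z) := by
    intro z
    induction z using TensorProduct.induction_on with
    | zero => funext i; simp
    | add x y hx hy =>
      funext i
      simp only [map_add, Pi.add_apply]
      rw [← congr_fun hx i, ← congr_fun hy i]
    | tmul t q =>
      induction t using TensorProduct.induction_on with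
      | zero => funext i; simp
      | add x y hx hy =>
        funext i
        simp only [TensorProduct.add_tmul, map_add, Pi.add_apply]
        rw [← congr_fun hx i, ← congr_fun hy i]
      | tmul s m => funext i; simp
  constructor
  · intro hS x y hxy
    apply (extendEquiv S M (∀ i, Q i)).symm.injective
    refine hS (funext fun i => (extendEquiv S M (Q i)).injective ?_)
    rw [congr_fun (h _) i, congr_fun (h _) i, AddEquiv.apply_symm_apply, AddEquiv.apply_symm_apply, hxy]
  · intro hR x y hxy
    apply (extendEquiv S M (∀ i, Q i)).injective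
    apply hR
    rw [← h, ← h, hxy]

end extend

theorem baseChange {M : Type u} [AddCommGroup M] [Module R M] (hM : CAlg.IsMittagLeffler R M) :
    CAlg.IsMittagLeffler S (S ⊗[R] M) := by
  intro ι Q _ _
  letI : ∀ i, Module R (Q i) := fun i => Module.compHom (Q i) (algebraMap R S)
  haveI : ∀ i, IsScalarTower R S (Q i) := fun i => .of_algebraMap_smul fun r x => rfl
  exact (injective_piRightHom_iff S M Q).mpr (hM ι Q)

/-- Restriction of scalars, given injectivity of the middle comparison map. -/
theorem restrict (M : Type u) [AddCommGroup M] [Module S M] [Module R M] [IsScalarTower R S M]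
    (hM : CAlg.IsMittagLeffler S M)
    (hmid : ∀ (ι : Type u) (Q : ι → Type u) [∀ i, AddCommGroup (Q i)] [∀ i, Module R (Q i)],
      Function.Injective ((piRightHom R S S Q).lTensor M)) :
    CAlg.IsMittagLeffler R M := by
  intro ι Q _ _
  let c : ∀ (X : Type u) [AddCommGroup X] [Module R X], M ⊗[S] (S ⊗[R] X) ≃ₗ[S] M ⊗[R] X :=
    fun X _ _ => AlgebraTensorModule.cancelBaseChange R S S M X
  have h : ∀ z, (fun i => c (Q i) (piRightHom S S M (fun i => S ⊗[R] Q i)
      ((piRightHom R S S Q).lTensor M z) i)) = piRightHom R R M Q (c (∀ i, Q i) z) := by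
    intro z
    induction z using TensorProduct.induction_on with
    | zero => funext i; simp
    | add x y hx hy =>
      funext i
      simp only [map_add, Pi.add_apply]
      rw [← congr_fun hx i, ← congr_fun hy i]
    | tmul m t =>
      induction t using TensorProduct.induction_on with
      | zero => funext i; simp
      | add x y hx hy =>
        funext i
        simp only [TensorProduct.tmul_add, map_add, Pi.add_apply]
        rw [← congr_fun hx i, ← congr_fun hy i]
      | tmul s q => funext i; simp [c]
  intro x y hxy
  apply (c _).symm.injective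
  apply hmid ι Q
  refine hM ι _ (funext fun i => (c (Q i)).injective ?_)
  rw [congr_fun (h _) i, congr_fun (h _) i, LinearEquiv.apply_symm_apply, LinearEquiv.apply_symm_apply, hxy]

theorem restrict_flat (M : Type u) [AddCommGroup M] [Module S M] [Module R M] [IsScalarTower R S M]
    [Module.Flat S M] (hS : CAlg.IsMittagLeffler R S) (hM : CAlg.IsMittagLeffler S M) :
    CAlg.IsMittagLeffler R M := by
  refine restrict S M hM fun ι Q _ _ => Module.Flat.lTensor_preserves_injective_linearMap _ ?_
  intro x y hxy
  exact hS ι Q hxy

theorem restrict_finitePresentation (M : Type u) [AddCommGroup M] [Module S M] [Module R M]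
    [IsScalarTower R S M] [Module.FinitePresentation R S] (hM : CAlg.IsMittagLeffler S M) :
    CAlg.IsMittagLeffler R M := by
  refine restrict S M hM fun ι Q _ _ => ?_
  have hb : Function.Bijective (piRightHom R S S Q) :=
    ⟨fun x y hxy => Module.of_finitePresentation (R := R) S ι Q hxy,
      fun y => Module.pi_surjective (R := R) (Q := Q) S y⟩
  exact ((LinearEquiv.ofBijective _ hb).lTensor M).injective

/-- A module with Mittag-Leffler faithfully flat base change is Mittag-Leffler. -/
theorem of_faithfullyFlat [Module.FaithfullyFlat R S] {M : Type u} [AddCommGroup M] [Module R M]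
    (h : CAlg.IsMittagLeffler S (S ⊗[R] M)) : CAlg.IsMittagLeffler R M := by
  refine Module.of_dominate fun n f => ?_
  have he : ∀ (N : Type u) [AddCommGroup N] [Module R N],
      CAlgX.UniversallyInjective R (TensorProduct.mk R S N 1) := by
    intro N _ _ X _ _ x y hxy
    have h2 : ∀ z, TensorProduct.assoc R S N X ((TensorProduct.mk R S N 1).rTensor X z) =
        (1 : S) ⊗ₜ z := fun z => by
      induction z using TensorProduct.induction_on with
      | zero => simp
      | add x y hx hy => simp [hx, hy, TensorProduct.tmul_add]
      | tmul a b => simp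
    apply Module.FaithfullyFlat.tensorProduct_mk_injective (A := R) (B := S) (N ⊗[R] X)
    show (1 : S) ⊗ₜ x = (1 : S) ⊗ₜ y
    rw [← h2, ← h2, hxy]
  obtain ⟨Q, i₁, i₂, i₃, g, -, -, hg⟩ := Module.exists_dominate (R := R) (M := M) (fun ι N _ _ =>
    ⟨fun i => S ⊗[R] N i, inferInstance, inferInstance, fun i => TensorProduct.mk R S (N i) 1,
      fun i => he (N i), (injective_piRightHom_iff S M fun i => S ⊗[R] N i).mp (h ι _)⟩) f
  exact ⟨Q, i₁, i₂, i₃, g, hg⟩

end Groth.Agent.ML.BaseChange
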