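import Groth.Prelude.Def_Found
import Groth.Prelude.Def_CAlgX
import Mathlib.LinearAlgebra.TensorProduct.Pi
import Mathlib.LinearAlgebra.TensorProduct.RightExactness
import Mathlib.LinearAlgebra.TensorProduct.Finiteness
import Mathlib.LinearAlgebra.TensorProduct.Tower
import Mathlib.Algebra.Module.FinitePresentation
import Mathlib.RingTheory.Flat.Basic

/-! Mittag-Leffler modules: injectivity of `M ⊗ ∏ Q → ∏ (M ⊗ Q)`, and domination. -/

set_option autoImplicit false

universe u v

namespace Groth.Agent.ML.Module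

open TensorProduct

variable {R : Type u} [CommRing R] {M : Type u} [AddCommGroup M] [Module R M]

theorem pi_natural {ι : Type v} {Q : ι → Type u} [∀ i, AddCommGroup (Q i)] [∀ i, Module R (Q i)]
    {P : Type u} [AddCommGroup P] [Module R P] (f : P →ₗ[R] M) (z : P ⊗[R] ∀ i, Q i) (i : ι) :
    piRightHom R R M Q (f.rTensor _ z) i = f.rTensor (Q i) (piRightHom R R P Q z i) := by
  induction z using TensorProduct.induction_on with
  | zero => simp
  | add x y hx hy => simp [hx, hy]
  | tmul x q => simp

theorem pi_natural_right {ι : Type v} {Q Q' : ι → Type u} [∀ i, AddCommGroup (Q i)] [∀ i, Module R (Q i)]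
    [∀ i, AddCommGroup (Q' i)] [∀ i, Module R (Q' i)]
    (e : ∀ i, Q i →ₗ[R] Q' i) (z : M ⊗[R] ∀ i, Q i) (i : ι) :
    piRightHom R R M Q' ((LinearMap.pi fun i => e i ∘ₗ LinearMap.proj i).lTensor M z) i =
      (e i).lTensor M (piRightHom R R M Q z i) := by
  induction z using TensorProduct.induction_on with
  | zero => simp
  | add x y hx hy => simp [hx, hy]
  | tmul x q => simp

theorem pi_free_injective {ι : Type v} {Q : ι → Type u} [∀ i, AddCommGroup (Q i)] [∀ i, Module R (Q i)]
    (n : ℕ) : Function.Injective (piRightHom R R (Fin n → R) Q) := by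
  have h : ∀ z : (Fin n → R) ⊗[R] (∀ i, Q i),
      z = ∑ k, (Pi.single k (1 : R) : Fin n → R) ⊗ₜ[R]
        (fun i => TensorProduct.lid R (Q i) ((LinearMap.proj k).rTensor (Q i) (piRightHom R R _ Q z i))) := by
    intro z
    induction z using TensorProduct.induction_on with
    | zero => simp [show (fun i => (0 : Q i)) = 0 from rfl]
    | add x y hx hy =>
      conv_lhs => rw [hx, hy, ← Finset.sum_add_distrib]
      refine Finset.sum_congr rfl fun k _ => ?_
      rw [← TensorProduct.tmul_add]
      congr 1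
      funext i; simp
    | tmul x q =>
      conv_lhs => rw [show x = ∑ k, x k • (Pi.single k (1 : R) : Fin n → R) from pi_eq_sum_univ' x,
        TensorProduct.sum_tmul]
      refine Finset.sum_congr rfl fun k _ => ?_
      rw [TensorProduct.smul_tmul]
      congr 1

  intro x y hxy
  rw [h x, h y, hxy]

theorem pi_surjective {ι : Type v} {Q : ι → Type u} [∀ i, AddCommGroup (Q i)] [∀ i, Module R (Q i)]
    (N : Type u) [AddCommGroup N] [Module R N] [Module.Finite R N] :
    Function.Surjective (piRightHom R R N Q) := by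
  intro y
  obtain ⟨n, g, hg⟩ := Module.Finite.exists_fin' R N
  choose w hw using fun i => LinearMap.rTensor_surjective (Q i) hg (y i)
  refine ⟨g.rTensor _ (∑ k, (Pi.single k (1 : R) : Fin n → R) ⊗ₜ[R]
      (fun i => TensorProduct.piScalarRight R R (Q i) (Fin n) (TensorProduct.comm R _ _ (w i)) k)), ?_⟩
  funext i
  rw [pi_natural, ← hw i]
  congr 1
  simp only [map_sum, Finset.sum_apply, piRightHom_tmul]
  apply (TensorProduct.comm R _ _).injective
  apply (TensorProduct.piScalarRight R R (Q i) (Fin n)).injective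
  funext l
  simp [map_sum, Finset.sum_apply, Pi.single_apply]

/-- A quotient of a Mittag-Leffler module by a finitely generated submodule is Mittag-Leffler. -/
theorem quotient {N : Submodule R M} (hN : N.FG) (hM : CAlg.IsMittagLeffler R M) :
    CAlg.IsMittagLeffler R (M ⧸ N) := by
  intro ι Q _ _
  rw [injective_iff_map_eq_zero]
  intro z hz
  obtain ⟨w, rfl⟩ := LinearMap.rTensor_surjective _ N.mkQ_surjective z
  have hex : ∀ (X : Type u) [AddCommGroup X] [Module R X],
      Function.Exact (N.subtype.rTensor X) (N.mkQ.rTensor X) := fun X _ _ =>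
    rTensor_exact X (LinearMap.exact_subtype_mkQ N) N.mkQ_surjective
  have hi : ∀ i, ∃ k, N.subtype.rTensor (Q i) k = piRightHom R R M Q w i := fun i =>
    (hex (Q i) _).mp (by rw [← pi_natural, hz]; rfl)
  choose k hk using hi
  haveI := Module.Finite.iff_fg.mpr hN
  obtain ⟨k', hk'⟩ := pi_surjective N k
  have : N.subtype.rTensor _ k' = w := hM ι Q <| funext fun i => by
    rw [pi_natural, hk', hk]
  rw [← this, (hex _).apply_apply_eq_zero]

theorem of_equiv {P : Type u} [AddCommGroup P] [Module R P] (e : P ≃ₗ[R] M)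
    (hM : CAlg.IsMittagLeffler R M) : CAlg.IsMittagLeffler R P := by
  intro ι Q _ _ x y hxy
  apply (e.rTensor _).injective
  apply hM ι Q
  funext i
  show piRightHom R R M Q (e.toLinearMap.rTensor _ x) i = piRightHom R R M Q (e.toLinearMap.rTensor _ y) i
  rw [pi_natural, pi_natural, hxy]

theorem of_finitePresentation (P : Type u) [AddCommGroup P] [Module R P] [Module.FinitePresentation R P] :
    CAlg.IsMittagLeffler R P := by
  obtain ⟨n, f, hf⟩ := Module.Finite.exists_fin' R P
  refine of_equiv (f.quotKerEquivOfSurjective hf).symm (quotient ?_ fun ι Q _ _ => pi_free_injective n)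
  exact Module.FinitePresentation.fg_ker f hf

/-- A universally injective submodule of a Mittag-Leffler module is Mittag-Leffler. -/
theorem of_universallyInjective {M₁ : Type u} [AddCommGroup M₁] [Module R M₁] (f : M₁ →ₗ[R] M)
    (hf : CAlgX.UniversallyInjective R f) (hM : CAlg.IsMittagLeffler R M) :
    CAlg.IsMittagLeffler R M₁ := by
  intro ι Q _ _ x y hxy
  exact hf _ (hM ι Q (funext fun i => by rw [pi_natural, pi_natural, hxy]))

/-- An element of `P ⊗ N` killed in `M ⊗ N` is killed in a finitely presented factorization. -/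
theorem exists_fp_factor {P : Type u} [AddCommGroup P] [Module R P] (f : P →ₗ[R] M)
    {N : Type u} [AddCommGroup N] [Module R N] (z : P ⊗[R] N) (hz : f.rTensor N z = 0) :
    ∃ (m k : ℕ) (a : Fin m → M) (r : Fin k → P × (Fin m → R)),
      (∀ l, f.coprod (Fintype.linearCombination R a) (r l) = 0) ∧
      ((Submodule.span R (Set.range r)).mkQ ∘ₗ LinearMap.inl R P (Fin m → R)).rTensor N z = 0 := by
  classical
  let π : P × (M →₀ R) →ₗ[R] M := f.coprod (Finsupp.linearCombination R id)
  have hπ : Function.Surjective π := fun x => ⟨(0, Finsupp.single x 1), by simp [π]⟩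
  have hz' : π.rTensor N ((LinearMap.inl R P (M →₀ R)).rTensor N z) = 0 := by
    rw [← LinearMap.rTensor_comp_apply, LinearMap.coprod_inl, hz]
  obtain ⟨w, hw⟩ := (rTensor_exact N (M := LinearMap.ker π) (LinearMap.exact_subtype_ker_map π) hπ _).mp hz'
  obtain ⟨K, hK, hwK⟩ := TensorProduct.exists_finite_submodule_left_of_setFinite {w} (Set.finite_singleton w)
  obtain ⟨w, rfl⟩ := hwK rfl
  obtain ⟨k, g, hg⟩ := Module.Finite.exists_fin' R K
  obtain ⟨w, rfl⟩ := LinearMap.rTensor_surjective N hg w
  let F : (Fin k → R) →ₗ[R] P × (M →₀ R) := (LinearMap.ker π).subtype ∘ₗ K.subtype ∘ₗ g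
  let s : Finset M := Finset.univ.biUnion fun l => (F (Pi.single l 1)).2.support
  let e : Fin s.card ≃ s := s.equivFin.symm
  let a : Fin s.card → M := fun j => (e j : M)
  have ha : Function.Injective a := Subtype.val_injective.comp e.injective
  let res : (M →₀ R) →ₗ[R] (Fin s.card → R) := LinearMap.pi fun j => Finsupp.lapply (a j)
  let r : Fin k → P × (Fin s.card → R) := fun l => ((F (Pi.single l 1)).1, res (F (Pi.single l 1)).2)
  refine ⟨s.card, k, a, r, fun l => ?_, ?_⟩
  · have h0 : π (F (Pi.single l 1)) = 0 := (g (Pi.single l 1)).1.2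
    refine Eq.trans ?_ h0
    simp only [r, π, LinearMap.coprod_apply]
    congr 1
    rw [Fintype.linearCombination_apply, Finsupp.linearCombination_apply,
      Finsupp.sum_of_support_subset _ (s := s)
        (Finset.subset_biUnion_of_mem (fun l => (F (Pi.single l 1)).2.support) (Finset.mem_univ l))
        (fun x c => c • id x) (by simp),
      ← Finset.sum_coe_sort s fun x => (F (Pi.single l 1)).2 x • id x]
    exact e.sum_comp fun x : s => (F (Pi.single l 1)).2 x • (x : M)
  · have h1 : (Submodule.span R (Set.range r)).mkQ ∘ₗ LinearMap.prodMap LinearMap.id res ∘ₗ F = 0 := by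
      refine (Pi.basisFun R (Fin k)).ext fun l => ?_
      simp only [Pi.basisFun_apply, LinearMap.comp_apply, LinearMap.zero_apply, Submodule.mkQ_apply,
        Submodule.Quotient.mk_eq_zero]
      exact Submodule.subset_span ⟨l, rfl⟩
    have h2 : LinearMap.inl R P (Fin s.card → R) =
        LinearMap.prodMap LinearMap.id res ∘ₗ LinearMap.inl R P (M →₀ R) := by
      ext x <;> simp
    rw [h2, LinearMap.rTensor_comp_apply, LinearMap.rTensor_comp_apply, ← hw,
      ← LinearMap.rTensor_comp_apply, ← LinearMap.rTensor_comp_apply,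
      ← LinearMap.rTensor_comp_apply, ← LinearMap.rTensor_comp_apply]
    simp only [LinearMap.comp_assoc]
    rw [show _ = (0 : (Fin k → R) →ₗ[R] _) from h1]
    simp

/-- Domination: `f` factors through a finitely presented `Q` such that everything killed by `f`
after tensoring is killed by `g`. The hypothesis allows to enlarge each family injectively. -/
theorem exists_dominate
    (hM : ∀ (ι : Type u) (N : ι → Type u) [∀ i, AddCommGroup (N i)] [∀ i, Module R (N i)],
      ∃ (N' : ι → Type u) (_ : ∀ i, AddCommGroup (N' i)) (_ : ∀ i, Module R (N' i))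
        (e : ∀ i, N i →ₗ[R] N' i), (∀ i, CAlgX.UniversallyInjective R (e i)) ∧
          Function.Injective (piRightHom R R M N'))
    {P : Type u} [AddCommGroup P] [Module R P] [Module.FinitePresentation R P] (f : P →ₗ[R] M) :
    ∃ (Q : Type u) (_ : AddCommGroup Q) (_ : Module R Q) (_ : Module.FinitePresentation R Q)
      (g : P →ₗ[R] Q) (h : Q →ₗ[R] M), h ∘ₗ g = f ∧
      ∀ (N : Type u) [AddCommGroup N] [Module R N],
        LinearMap.ker (f.rTensor N) = LinearMap.ker (g.rTensor N) := by
  classical
  let Fac : Type u := Σ m : ℕ, Σ k : ℕ, {p : (Fin m → M) × (Fin k → P × (Fin m → R)) //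
    ∀ l, f.coprod (Fintype.linearCombination R p.1) (p.2 l) = 0}
  let K : ∀ c : Fac, Submodule R (P × (Fin c.1 → R)) := fun c => Submodule.span R (Set.range c.2.2.1.2)
  let g : ∀ c : Fac, P →ₗ[R] (P × (Fin c.1 → R)) ⧸ K c := fun c =>
    (K c).mkQ ∘ₗ LinearMap.inl R P (Fin c.1 → R)
  suffices h : ∃ c : Fac, ∀ (N : Type u) [AddCommGroup N] [Module R N],
      LinearMap.ker (f.rTensor N) ≤ LinearMap.ker ((g c).rTensor N) by
    obtain ⟨c, hc⟩ := h
    have hle : K c ≤ LinearMap.ker (f.coprod (Fintype.linearCombination R c.2.2.1.1)) := by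
      rw [Submodule.span_le]
      rintro _ ⟨l, rfl⟩
      exact c.2.2.2 l
    have hfac : (K c).liftQ _ hle ∘ₗ g c = f := by
      ext x; simp [g]
    refine ⟨_, inferInstance, inferInstance, Module.finitePresentation_of_surjective (K c).mkQ
      (K c).mkQ_surjective ?_, g c, (K c).liftQ _ hle, hfac, fun N _ _ =>
        le_antisymm (hc N) fun z hz => ?_⟩
    · rw [Submodule.ker_mkQ]; exact Submodule.fg_span (Set.finite_range _)
    · rw [LinearMap.mem_ker] at hz ⊢
      conv_lhs => rw [← hfac]
      rw [LinearMap.rTensor_comp_apply, hz, map_zero]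
  by_contra hcon
  push Not at hcon
  choose N hN₁ hN₂ hNle using hcon
  simp only [SetLike.not_le_iff_exists, LinearMap.mem_ker] at hNle
  choose z hfz hgz using hNle
  obtain ⟨N', i₁, i₂, e, he, hinj⟩ := hM Fac N
  obtain ⟨w, hw⟩ := pi_surjective (R := R) (Q := N') P fun c => (e c).lTensor P (z c)
  have hfw : f.rTensor _ w = 0 := by
    refine hinj (funext fun c => ?_)
    rw [pi_natural, hw, map_zero, Pi.zero_apply, ← LinearMap.comp_apply,
      LinearMap.rTensor_comp_lTensor, ← LinearMap.lTensor_comp_rTensor, LinearMap.comp_apply,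
      hfz c, map_zero]
  obtain ⟨m, k, a, r, hr, hgw⟩ := exists_fp_factor f w hfw
  let c : Fac := ⟨m, k, ⟨(a, r), hr⟩⟩
  apply hgz c
  have h1 : piRightHom R R _ N' ((g c).rTensor _ w) c = 0 := by
    rw [show (g c).rTensor _ w = 0 from hgw, map_zero, Pi.zero_apply]
  rw [pi_natural, hw, ← LinearMap.comp_apply, LinearMap.rTensor_comp_lTensor,
    ← LinearMap.lTensor_comp_rTensor, LinearMap.comp_apply] at h1
  have h2 := he c ((P × (Fin m → R)) ⧸ K c)
  apply (injective_iff_map_eq_zero ((e c).lTensor _)).mp ?_ _ h1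
  intro x y hxy
  apply (TensorProduct.comm R _ _).injective
  apply h2
  have hc : ∀ x, (e c).rTensor _ (TensorProduct.comm R _ _ x) =
      TensorProduct.comm R ((P × (Fin m → R)) ⧸ K c) _ ((e c).lTensor _ x) := fun x => by
    induction x using TensorProduct.induction_on with
    | zero => simp
    | add x y hx hy => simp [hx, hy]
    | tmul x q => simp
  rw [hc, hc, hxy]

/-- Mittag-Leffler modules have the domination property. -/
theorem dominate (hM : CAlg.IsMittagLeffler R M)
    {P : Type u} [AddCommGroup P] [Module R P] [Module.FinitePresentation R P] (f : P →ₗ[R] M) :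
    ∃ (Q : Type u) (_ : AddCommGroup Q) (_ : Module R Q) (_ : Module.FinitePresentation R Q)
      (g : P →ₗ[R] Q) (h : Q →ₗ[R] M), h ∘ₗ g = f ∧
      ∀ (N : Type u) [AddCommGroup N] [Module R N],
        LinearMap.ker (f.rTensor N) = LinearMap.ker (g.rTensor N) :=
  exists_dominate (fun ι N _ _ => ⟨N, inferInstance, inferInstance, fun _ => LinearMap.id,
    fun i X _ _ => by rw [LinearMap.rTensor_id]; exact fun _ _ h => h, hM ι N⟩) f

theorem exists_fin_lift {ι : Type v} {Q : ι → Type u} [∀ i, AddCommGroup (Q i)] [∀ i, Module R (Q i)]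
    (z : M ⊗[R] ∀ i, Q i) :
    ∃ (n : ℕ) (f : (Fin n → R) →ₗ[R] M) (w : (Fin n → R) ⊗[R] ∀ i, Q i), f.rTensor _ w = z := by
  obtain ⟨k, m, q, rfl⟩ := TensorProduct.exists_sum_tmul_eq z
  exact ⟨k, Fintype.linearCombination R m, ∑ j, Pi.single j 1 ⊗ₜ q j, by simp [map_sum]⟩

/-- The criterion for being Mittag-Leffler. -/
theorem of_dominate
    (h : ∀ (n : ℕ) (f : (Fin n → R) →ₗ[R] M),
      ∃ (Q : Type u) (_ : AddCommGroup Q) (_ : Module R Q) (_ : Module.FinitePresentation R Q)
        (g : (Fin n → R) →ₗ[R] Q), ∀ (N : Type u) [AddCommGroup N] [Module R N],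
          LinearMap.ker (f.rTensor N) = LinearMap.ker (g.rTensor N)) :
    CAlg.IsMittagLeffler R M := by
  intro ι Q _ _
  rw [injective_iff_map_eq_zero]
  intro z hz
  obtain ⟨n, f, w, rfl⟩ := exists_fin_lift z
  obtain ⟨Q', _, _, _, g, hg⟩ := h n f
  suffices g.rTensor _ w = 0 by
    have h2 : w ∈ LinearMap.ker (g.rTensor _) := this
    rw [← hg] at h2; exact h2
  refine of_finitePresentation Q' ι Q (funext fun i => ?_)
  rw [map_zero, pi_natural]
  have h1 : piRightHom R R _ Q w i ∈ LinearMap.ker (f.rTensor (Q i)) := by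
    rw [LinearMap.mem_ker, ← pi_natural, hz]; rfl
  rw [hg] at h1; exact h1

/-- A map killed (universally) by another with finitely presented target factors through it. -/
theorem exists_factor_of_ker_le {P A B : Type u} [AddCommGroup P] [Module R P] [Module.Finite R P]
    [AddCommGroup A] [Module R A] [Module.FinitePresentation R A] [AddCommGroup B] [Module R B]
    (f : P →ₗ[R] A) (g : P →ₗ[R] B)
    (h : ∀ (N : Type u) [AddCommGroup N] [Module R N],
      LinearMap.ker (f.rTensor N) ≤ LinearMap.ker (g.rTensor N)) :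
    ∃ t : A →ₗ[R] B, t ∘ₗ f = g := by
  classical
  obtain ⟨n, π, hπ⟩ := Module.Finite.exists_fin' R A
  haveI : Module.Finite R (LinearMap.ker π) :=
    Module.Finite.iff_fg.mpr (Module.FinitePresentation.fg_ker π hπ)
  obtain ⟨k, r, hr⟩ := Module.Finite.exists_fin' R (LinearMap.ker π)
  obtain ⟨m, p, hp⟩ := Module.Finite.exists_fin' R P
  obtain ⟨c, hc⟩ := Module.projective_lifting_property π (f ∘ₗ p) hπ
  let D : (Fin n → R) →ₗ[R] (Fin k → R) × (Fin m → R) := LinearMap.prod
    (Fintype.linearCombination R fun i : Fin n => fun l => (r (Pi.single l 1)).1 i)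
    (Fintype.linearCombination R fun i : Fin n => fun s => c (Pi.single s 1) i)
  let N := ((Fin k → R) × (Fin m → R)) ⧸ LinearMap.range D
  let z : P ⊗[R] N := ∑ s, p (Pi.single s 1) ⊗ₜ (LinearMap.range D).mkQ (0, Pi.single s 1)
  have hfz : f.rTensor N z = 0 := by
    have h1 : ∀ i, ∑ s, c (Pi.single s 1) i • (LinearMap.range D).mkQ (0, Pi.single s 1) =
        -∑ l, (r (Pi.single l 1)).1 i • (LinearMap.range D).mkQ (Pi.single l 1, 0) := by
      intro i
      rw [eq_neg_iff_add_eq_zero]
      simp only [← map_smul, ← map_sum, ← map_add]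
      rw [Submodule.mkQ_apply, Submodule.Quotient.mk_eq_zero]
      refine ⟨Pi.single i 1, Prod.ext (funext fun x => ?_) (funext fun x => ?_)⟩ <;>
        simp [D, Fintype.linearCombination_apply_single, Prod.fst_sum, Prod.snd_sum,
          Finset.sum_apply, Pi.single_apply]
    have h2 : ∀ y : Fin n → R, π y = ∑ i, y i • π (Pi.single i 1) := fun y => by
      conv_lhs => rw [pi_eq_sum_univ' y]
      simp [map_sum]
    have h3 : ∀ l, ∑ i, (r (Pi.single l 1)).1 i • π (Pi.single i 1) = 0 := fun l => by
      rw [← h2]; exact (r (Pi.single l 1)).2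
    have h4 : ∀ s, f (p (Pi.single s 1)) = π (c (Pi.single s 1)) := fun s =>
      (LinearMap.congr_fun hc (Pi.single s 1)).symm
    simp only [z, map_sum, LinearMap.rTensor_tmul, h4]
    simp only [h2 (c _), TensorProduct.sum_tmul, TensorProduct.smul_tmul]
    rw [Finset.sum_comm]
    simp only [← TensorProduct.tmul_sum, h1, TensorProduct.tmul_neg, Finset.sum_neg_distrib,
      neg_eq_zero]
    simp only [TensorProduct.tmul_sum, ← TensorProduct.smul_tmul]
    rw [Finset.sum_comm]
    simp only [← TensorProduct.sum_tmul, h3, TensorProduct.zero_tmul, Finset.sum_const_zero]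
  obtain ⟨γ, hγ⟩ := (lTensor_exact B (LinearMap.exact_map_mkQ_range D)
    (LinearMap.range D).mkQ_surjective
    (∑ s, g (p (Pi.single s 1)) ⊗ₜ ((0, Pi.single s 1) : (Fin k → R) × (Fin m → R)))).mp (by
      have h0 : g.rTensor N z = 0 := h N hfz
      simpa [z, map_sum] using h0)
  let b : Fin n → B := TensorProduct.piScalarRight R R B (Fin n) γ
  have hb : γ = ∑ i, b i ⊗ₜ (Pi.single i 1 : Fin n → R) := by
    apply (TensorProduct.piScalarRight R R B (Fin n)).injective
    funext i
    simp [b, map_sum, Finset.sum_apply, Pi.single_apply]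
  rw [hb] at hγ
  let ev (F : (Fin k → R) × (Fin m → R) →ₗ[R] R) : B ⊗[R] ((Fin k → R) × (Fin m → R)) →ₗ[R] B :=
    (TensorProduct.rid R B).toLinearMap ∘ₗ F.lTensor B
  have hker : LinearMap.ker π ≤ LinearMap.ker (Fintype.linearCombination R b) := by
    have : (Fintype.linearCombination R b) ∘ₗ (LinearMap.ker π).subtype ∘ₗ r = 0 := by
      refine (Pi.basisFun R (Fin k)).ext fun l => ?_
      have := congrArg (ev (LinearMap.proj l ∘ₗ LinearMap.fst R _ _)) hγ
      simpa [ev, D, map_sum, Fintype.linearCombination_apply, Pi.single_apply] using this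
    intro y hy
    obtain ⟨x, hx⟩ := hr ⟨y, hy⟩
    have := LinearMap.congr_fun this x
    simpa [hx] using this
  refine ⟨(LinearMap.ker π).liftQ _ hker ∘ₗ (π.quotKerEquivOfSurjective hπ).symm.toLinearMap, ?_⟩
  refine LinearMap.ext fun x => ?_
  obtain ⟨y, rfl⟩ := hp x
  have key : ((LinearMap.ker π).liftQ _ hker ∘ₗ (π.quotKerEquivOfSurjective hπ).symm.toLinearMap) ∘ₗ f ∘ₗ p
      = g ∘ₗ p := by
    refine (Pi.basisFun R (Fin m)).ext fun s => ?_
    have h4 : f (p (Pi.single s 1)) = π (c (Pi.single s 1)) := (LinearMap.congr_fun hc _).symm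
    have := congrArg (ev (LinearMap.proj s ∘ₗ LinearMap.snd R _ _)) hγ
    simp only [Pi.basisFun_apply, LinearMap.comp_apply, LinearEquiv.coe_coe, h4]
    rw [LinearMap.quotKerEquivOfSurjective_symm_apply, Submodule.liftQ_apply]
    simpa [ev, D, map_sum, Fintype.linearCombination_apply, Pi.single_apply] using this
  exact LinearMap.congr_fun key y

end Groth.Agent.ML.Module
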