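import Groth.Agent.ML.Telescope
import Groth.Agent.ML.BaseChange
import Groth.Agent.LocalAlg.Kaplansky
import Mathlib.LinearAlgebra.DFinsupp
import Mathlib.RingTheory.Flat.Stability
import Mathlib.RingTheory.Flat.FaithfullyFlat.Descent
import Mathlib.Order.Zorn

/-! Projective = flat + Mittag-Leffler + sum of countably generated; faithfully flat descent of projectivity. -/

set_option autoImplicit false

universe u

namespace Groth.Agent.ML.Projective

open TensorProduct

variable {R : Type u} [CommRing R] {M : Type u} [AddCommGroup M] [Module R M]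

theorem finsupp_ml (ι : Type u) : CAlg.IsMittagLeffler R (ι →₀ R) := by
  classical
  refine Module.of_dominate fun n f => ?_
  let s : Finset ι := Finset.univ.biUnion fun i => (f (Pi.single i 1)).support
  let g : (Fin n → R) →ₗ[R] (s → R) := LinearMap.pi fun j => Finsupp.lapply (j : ι) ∘ₗ f
  let e : (s → R) →ₗ[R] (ι →₀ R) := Fintype.linearCombination R fun j => Finsupp.single (j : ι) 1
  have he : e ∘ₗ g = f := (Pi.basisFun R (Fin n)).ext fun i => by
    have hi : (f (Pi.single i 1)).support ⊆ s :=
      Finset.subset_biUnion_of_mem (fun i => (f (Pi.single i 1)).support) (Finset.mem_univ i)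
    simp only [Pi.basisFun_apply, LinearMap.comp_apply, e, g, Fintype.linearCombination_apply,
      LinearMap.pi_apply, Finsupp.lapply_apply, Finsupp.smul_single, smul_eq_mul, mul_one]
    conv_rhs => rw [← Finsupp.sum_single (f (Pi.single i 1))]
    rw [Finsupp.sum_of_support_subset _ hi _ (fun _ _ => Finsupp.single_zero _)]
    exact Finset.sum_coe_sort s fun x => Finsupp.single x ((f (Pi.single i 1)) x)
  refine ⟨s → R, inferInstance, inferInstance, inferInstance, g, fun N _ _ => ?_⟩
  let p : (ι →₀ R) →ₗ[R] (s → R) := LinearMap.pi fun j => Finsupp.lapply (j : ι)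
  have hg : g = p ∘ₗ f := rfl
  refine le_antisymm (fun z hz => ?_) (fun z hz => ?_) <;> rw [LinearMap.mem_ker] at hz ⊢
  · rw [hg, LinearMap.rTensor_comp_apply, hz, map_zero]
  · rw [← he, LinearMap.rTensor_comp_apply, hz, map_zero]

theorem ml_of_projective [_root_.Module.Projective R M] : CAlg.IsMittagLeffler R M := by
  obtain ⟨s, hs⟩ := _root_.Module.Projective.out (R := R) (P := M)
  refine Module.of_universallyInjective s (fun N _ _ => ?_) (finsupp_ml M)
  refine Function.LeftInverse.injective (g := (Finsupp.linearCombination R id).rTensor N) fun x => ?_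
  rw [← LinearMap.rTensor_comp_apply,
    show Finsupp.linearCombination R id ∘ₗ s = LinearMap.id from LinearMap.ext hs, LinearMap.rTensor_id]
  rfl

theorem isInternal_map {P : Type u} [AddCommGroup P] [Module R P] {κ : Type u} [DecidableEq κ]
    (K : κ → Submodule R P) (hK : DirectSum.IsInternal K) (hc : ∀ k, CAlg.IsCountablyGenerated R (K k))
    (e : P ≃ₗ[R] M) :
    DirectSum.IsInternal (fun k => (K k).map e.toLinearMap) ∧
      ∀ k, CAlg.IsCountablyGenerated R ((K k).map e.toLinearMap) := by
  refine ⟨?_, fun k => ?_⟩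
  · have hK' := (DirectSum.isInternal_submodule_iff_iSupIndep_and_iSup_eq_top K).mp hK
    refine (DirectSum.isInternal_submodule_iff_iSupIndep_and_iSup_eq_top _).mpr
      ⟨hK'.1.map_orderIso (Submodule.orderIsoMapComap e), ?_⟩
    rw [← Submodule.map_iSup, hK'.2, Submodule.map_top, LinearEquiv.range]
  · obtain ⟨t, ht, htop⟩ := hc k
    refine ⟨(e.submoduleMap (K k)) '' t, ht.image _, ?_⟩
    show Submodule.span R ((e.submoduleMap (K k)).toLinearMap '' t) = ⊤
    rw [← Submodule.map_span, htop, Submodule.map_top, LinearEquiv.range]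

theorem exists_isInternal_of_retract {F : Type u} [AddCommGroup F] [Module R F] {ι : Type u} [DecidableEq ι]
    (L : ι → Submodule R F) (hL : DirectSum.IsInternal L) (hcg : ∀ i, CAlg.IsCountablyGenerated R (L i))
    (s : M →ₗ[R] F) (p : F →ₗ[R] M) (hs : ∀ y, p (s y) = y) :
    ∃ (κ : Type u) (_ : DecidableEq κ) (N : κ → Submodule R M), DirectSum.IsInternal N ∧
      ∀ k, CAlg.IsCountablyGenerated R (N k) := by
  have hinj : Function.Injective s := fun a b h => by rw [← hs a, ← hs b, h]
  have hcompl : IsCompl (LinearMap.range s) (LinearMap.ker p) := by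
    refine ⟨?_, ?_⟩
    · rw [Submodule.disjoint_def]
      rintro _ ⟨y, rfl⟩ hy
      rw [LinearMap.mem_ker, hs y] at hy
      rw [hy, map_zero]
    · rw [codisjoint_iff, eq_top_iff]
      rintro x -
      refine Submodule.mem_sup.mpr ⟨s (p x), ⟨_, rfl⟩, x - s (p x), ?_, add_sub_cancel _ _⟩
      rw [LinearMap.mem_ker, map_sub, hs (p x), sub_self]
  obtain ⟨κ, hκ, K, hK, hKc⟩ :=
    LocalAlg.Kaplansky.exists_isInternal_countable L hL hcg _ _ hcompl
  exact ⟨κ, hκ, _, isInternal_map K hK hKc (LinearEquiv.ofInjective s hinj).symm⟩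

theorem span_single_internal (ι : Type u) [DecidableEq ι] :
    DirectSum.IsInternal (fun m : ι => Submodule.span R {(Finsupp.single m 1 : ι →₀ R)}) := by
  classical
  rw [DirectSum.isInternal_submodule_iff_iSupIndep_and_iSup_eq_top]
  refine ⟨?_, ?_⟩
  · intro m
    rw [Submodule.disjoint_def]
    intro x hx hx'
    obtain ⟨c, rfl⟩ := Submodule.mem_span_singleton.mp hx
    have h0 : (⨆ (j : ι) (_ : j ≠ m), Submodule.span R {(Finsupp.single j 1 : ι →₀ R)}) ≤
        LinearMap.ker (Finsupp.lapply (R := R) (M := R) m) := by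
      refine iSup₂_le fun j hj => ?_
      rw [Submodule.span_le, Set.singleton_subset_iff, SetLike.mem_coe, LinearMap.mem_ker]
      simp [hj]
    have hc : c = 0 := by simpa using h0 hx'
    simp [hc]
  · rw [eq_top_iff]
    rintro x -
    rw [← Finsupp.sum_single x]
    refine Submodule.sum_mem _ fun m _ => Submodule.mem_iSup_of_mem m ?_
    exact Submodule.mem_span_singleton.mpr ⟨x m, by simp⟩

theorem exists_isInternal_of_projective [_root_.Module.Projective R M] :
    ∃ (κ : Type u) (_ : DecidableEq κ) (N : κ → Submodule R M), DirectSum.IsInternal N ∧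
      ∀ k, CAlg.IsCountablyGenerated R (N k) := by
  classical
  obtain ⟨s, hs⟩ := _root_.Module.Projective.out (R := R) (P := M)
  refine exists_isInternal_of_retract _ (span_single_internal (R := R) M) (fun m => ?_) s
    (Finsupp.linearCombination R id) hs
  refine ⟨{⟨Finsupp.single m 1, Submodule.mem_span_singleton_self _⟩}, Set.countable_singleton _, ?_⟩
  rw [eq_top_iff]
  rintro ⟨x, hx⟩ -
  obtain ⟨c, rfl⟩ := Submodule.mem_span_singleton.mp hx
  exact Submodule.mem_span_singleton.mpr ⟨c, rfl⟩

theorem projective_of_isInternal {κ : Type u} [DecidableEq κ] (N : κ → Submodule R M)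
    (hN : DirectSum.IsInternal N) [∀ k, _root_.Module.Projective R (N k)] :
    _root_.Module.Projective R M :=
  _root_.Module.Projective.of_equiv (LinearEquiv.ofBijective (DirectSum.coeLinearMap N) hN)

theorem projective_summand [_root_.Module.Projective R M] {P Q : Submodule R M} (h : IsCompl P Q) :
    _root_.Module.Projective R P :=
  _root_.Module.Projective.of_split P.subtype (P.linearProjOfIsCompl Q h)
    (LinearMap.ext fun x => Submodule.linearProjOfIsCompl_apply_left h x)

/-- Characterisation of projective modules. -/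
theorem projective_of_flat_ml {κ : Type u} [DecidableEq κ] (N : κ → Submodule R M)
    (hN : DirectSum.IsInternal N) (hc : ∀ k, CAlg.IsCountablyGenerated R (N k))
    [_root_.Module.Flat R M] (hM : CAlg.IsMittagLeffler R M) : _root_.Module.Projective R M := by
  have h2 := (DirectSum.isInternal_submodule_iff_iSupIndep_and_iSup_eq_top N).mp hN
  have hproj : ∀ k, _root_.Module.Projective R (N k) := by
    intro k
    have hcompl : IsCompl (N k) (⨆ (j : κ) (_ : j ≠ k), N j) := by
      refine ⟨h2.1 k, ?_⟩
      rw [codisjoint_iff, eq_top_iff, ← h2.2]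
      refine iSup_le fun j => ?_
      by_cases hj : j = k
      · subst hj; exact le_sup_left
      · exact le_sup_of_le_right (le_iSup₂_of_le j hj le_rfl)
    have hinv : (N k).linearProjOfIsCompl _ hcompl ∘ₗ (N k).subtype = LinearMap.id :=
      LinearMap.ext fun x => Submodule.linearProjOfIsCompl_apply_left hcompl x
    haveI : _root_.Module.Flat R (N k) := _root_.Module.Flat.of_retract (N k).subtype _ hinv
    refine Telescope.projective (Module.of_universallyInjective (N k).subtype (fun X _ _ => ?_) hM) (hc k)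
    refine Function.LeftInverse.injective
      (g := ((N k).linearProjOfIsCompl _ hcompl).rTensor X) fun x => ?_
    rw [← LinearMap.rTensor_comp_apply, hinv, LinearMap.rTensor_id]; rfl
  exact projective_of_isInternal N hN

section descent

variable (S : Type u) [CommRing S] [Algebra R S] [_root_.Module.FaithfullyFlat R S]

theorem flat_of_baseChange [_root_.Module.Flat S (S ⊗[R] M)] : _root_.Module.Flat R M := by
  haveI : _root_.Module.Flat R (S ⊗[R] M) := _root_.Module.Flat.trans R S (S ⊗[R] M)
  rw [_root_.Module.Flat.iff_lTensor_preserves_injective_linearMap]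
  intro N P _ _ _ _ g hg
  have h : Function.Injective (g.lTensor (S ⊗[R] M)) :=
    _root_.Module.Flat.lTensor_preserves_injective_linearMap g hg
  rw [← _root_.Module.FaithfullyFlat.lTensor_injective_iff_injective R S]
  have hnat : ∀ z, (TensorProduct.assoc R S M P).symm ((g.lTensor M).lTensor S z) =
      g.lTensor (S ⊗[R] M) ((TensorProduct.assoc R S M N).symm z) := fun z => by
    induction z using TensorProduct.induction_on with
    | zero => simp
    | add x y hx hy => simp [hx, hy]
    | tmul s t =>
      induction t using TensorProduct.induction_on with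
      | zero => simp
      | add x y hx hy => simp [TensorProduct.tmul_add] at hx hy ⊢; rw [hx, hy]
      | tmul m n => simp
  intro x y hxy
  apply (TensorProduct.assoc R S M N).symm.injective
  apply h
  rw [← hnat, ← hnat, hxy]

theorem eq_top_of_baseChange {N : Submodule R M} (h : N.baseChange S = ⊤) : N = ⊤ := by
  have hs : Function.Surjective (N.subtype.baseChange S) := LinearMap.range_eq_top.mp h
  rw [← Submodule.range_subtype N, LinearMap.range_eq_top]
  exact (_root_.Module.FaithfullyFlat.lTensor_surjective_iff_surjective R S N.subtype).mp hs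

theorem baseChange_gc {N : Submodule R M} {P : Submodule S (S ⊗[R] M)} :
    N.baseChange S ≤ P ↔ N ≤ (P.restrictScalars R).comap (TensorProduct.mk R S M 1) := by
  rw [Submodule.baseChange_eq_span, Submodule.span_le]
  exact ⟨fun h x hx => h ⟨x, hx, rfl⟩, by rintro h _ ⟨x, hx, rfl⟩; exact h hx⟩

/-- Countable generation descends. -/
theorem countablyGenerated_of_baseChange (h : CAlg.IsCountablyGenerated S (S ⊗[R] M)) :
    CAlg.IsCountablyGenerated R M := by
  classical
  obtain ⟨s, hs, hspan⟩ := h
  choose T hT using fun z : S ⊗[R] M => TensorProduct.exists_finset (R := R) z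
  let t : Set M := ⋃ z ∈ s, ((T z).image Prod.snd : Finset M)
  refine ⟨t, hs.biUnion fun z _ => Finset.countable_toSet _, eq_top_of_baseChange S ?_⟩
  rw [eq_top_iff, ← hspan, Submodule.span_le]
  intro z hz
  rw [hT z]
  refine Submodule.sum_mem _ fun i hi => Submodule.tmul_mem_baseChange_of_mem _ (Submodule.subset_span ?_)
  exact Set.mem_biUnion hz (Finset.mem_coe.mpr (Finset.mem_image_of_mem Prod.snd hi))

/-- Projectivity descends along faithfully flat maps. -/
theorem projective_of_baseChange [_root_.Module.Projective S (S ⊗[R] M)] :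
    _root_.Module.Projective R M := by
  classical
  obtain ⟨κ, _, L, hL, hLc⟩ := exists_isInternal_of_projective (R := S) (M := S ⊗[R] M)
  obtain ⟨hind, htop⟩ := (DirectSum.isInternal_submodule_iff_iSupIndep_and_iSup_eq_top L).mp hL
  choose g hgc hgspan using hLc
  let part : Set κ → Submodule S (S ⊗[R] M) := fun J => ⨆ i ∈ J, L i
  haveI hflat : _root_.Module.Flat R M := flat_of_baseChange S
  have hcompl : ∀ J, IsCompl (part J) (part Jᶜ) := fun J =>
    ⟨hind.disjoint_biSup_biSup disjoint_compl_right, by
      rw [codisjoint_iff, eq_top_iff, ← htop]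
      refine iSup_le fun i => ?_
      by_cases hi : i ∈ J
      · exact le_sup_of_le_left (le_biSup L hi)
      · exact le_sup_of_le_right (le_biSup L (show i ∈ Jᶜ from hi))⟩
  -- supports
  have hsup : ∀ z : S ⊗[R] M, ∃ F : Finset κ, z ∈ part (F : Set κ) := fun z => by
    obtain ⟨F, hF⟩ := Submodule.exists_finset_of_mem_iSup L (htop ▸ Submodule.mem_top : z ∈ _)
    exact ⟨F, by simpa [part] using hF⟩
  choose F hF using hsup
  choose T hT using fun z : S ⊗[R] M => TensorProduct.exists_finset (R := R) z
  -- countable saturation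
  have hsat : ∀ i₀ : κ, ∃ (K : Set κ) (t : Set M), K.Countable ∧ t.Countable ∧ i₀ ∈ K ∧
      (Submodule.span R t).baseChange S = part K := by
    intro i₀
    let gens : Set κ → Set M := fun K => ⋃ i ∈ K, ⋃ m ∈ g i, ((T (m : S ⊗[R] M)).image Prod.snd : Finset M)
    let nxt : Set κ → Set κ := fun K => K ∪ ⋃ x ∈ gens K, (F ((1 : S) ⊗ₜ x) : Set κ)
    let K : ℕ → Set κ := fun n => nxt^[n] {i₀}
    have hg : ∀ K : Set κ, K.Countable → (gens K).Countable := fun K hK =>
      hK.biUnion fun i _ => (hgc i).biUnion fun m _ => Finset.countable_toSet _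
    have hK : ∀ n, (K n).Countable := by
      intro n
      induction n with
      | zero => exact Set.countable_singleton _
      | succ n ih =>
        simp only [K, Function.iterate_succ', Function.comp_apply]
        exact ih.union ((hg _ ih).biUnion fun x _ => Finset.countable_toSet _)
    refine ⟨⋃ n, K n, ⋃ n, gens (K n), Set.countable_iUnion hK,
      Set.countable_iUnion fun n => hg _ (hK n), Set.mem_iUnion.2 ⟨0, rfl⟩, le_antisymm ?_ ?_⟩
    · rw [baseChange_gc, Submodule.span_le]
      intro x hx
      obtain ⟨n, hn⟩ := Set.mem_iUnion.1 hx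
      refine (biSup_mono (f := L) (fun j hj => ?_) : part _ ≤ part _) (hF ((1 : S) ⊗ₜ x))
      refine Set.mem_iUnion.2 ⟨n + 1, ?_⟩
      simp only [K, Function.iterate_succ', Function.comp_apply]
      exact Or.inr (Set.mem_biUnion hn hj)
    · refine iSup₂_le fun i hi => ?_
      obtain ⟨n, hn⟩ := Set.mem_iUnion.1 hi
      have hLi : Submodule.span S (Subtype.val '' g i) = L i := by
        have := congrArg (Submodule.map (L i).subtype) (hgspan i)
        rwa [Submodule.map_span, Submodule.map_subtype_top] at this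
      rw [← hLi, Submodule.span_le]
      rintro _ ⟨m, hm, rfl⟩
      rw [hT (m : S ⊗[R] M)]
      refine Submodule.sum_mem _ fun p hp =>
        Submodule.tmul_mem_baseChange_of_mem _ (Submodule.subset_span ?_)
      exact Set.mem_iUnion.2 ⟨n, Set.mem_biUnion hn (Set.mem_biUnion hm
        (Finset.mem_coe.mpr (Finset.mem_image_of_mem Prod.snd hp)))⟩
  let St : Set (Set κ × Set (Submodule R M)) :=
    {x | sSupIndep x.2 ∧ (∀ C ∈ x.2, _root_.Module.Projective R C) ∧ (sSup x.2).baseChange S = part x.1}
  have ne : ((∅, ∅) : Set κ × Set (Submodule R M)) ∈ St :=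
    ⟨fun _ h => h.elim, fun _ h => h.elim, by simp [part]⟩
  obtain ⟨⟨J, 𝓛⟩, -, hmax⟩ := zorn_le_nonempty₀ St (fun c hcS hch y hy => by
    refine ⟨(⋃ x ∈ c, x.1, ⋃ x ∈ c, x.2), ⟨?_, ?_, ?_⟩,
      fun z hz => ⟨Set.subset_biUnion_of_mem (u := fun x : Set κ × Set (Submodule R M) => x.1) hz,
        Set.subset_biUnion_of_mem (u := fun x : Set κ × Set (Submodule R M) => x.2) hz⟩⟩
    · show sSupIndep (⋃ x ∈ c, x.2)
      rw [Set.biUnion_eq_iUnion]
      refine sSupIndep_iUnion_of_directed ?_ fun x => (hcS x.2).1
      exact (hch.directedOn.directed_val).mono_comp _ (g := fun x : Set κ × Set (Submodule R M) => x.2)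
        fun a b h => h.2
    · intro C hC
      obtain ⟨x, hx, hC⟩ := Set.mem_iUnion₂.1 hC
      exact (hcS hx).2.1 C hC
    · show (sSup (⋃ x ∈ c, x.2)).baseChange S = part (⋃ x ∈ c, x.1)
      refine le_antisymm ?_ (iSup₂_le fun i hi => ?_)
      · rw [baseChange_gc, sSup_le_iff]
        intro C hC
        obtain ⟨x, hx, hC⟩ := Set.mem_iUnion₂.1 hC
        refine (baseChange_gc S).mp ?_
        exact ((Submodule.baseChange_mono S (le_sSup hC)).trans (hcS hx).2.2.le).trans
          (biSup_mono (Set.subset_biUnion_of_mem (u := fun x : Set κ × Set (Submodule R M) => x.1) hx))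
      · obtain ⟨x, hx, hix⟩ := Set.mem_iUnion₂.1 hi
        exact (le_biSup L hix).trans ((hcS hx).2.2.ge.trans (Submodule.baseChange_mono S
          (sSup_le_sSup (Set.subset_biUnion_of_mem (u := fun x : Set κ × Set (Submodule R M) => x.2) hx)))))
    _ ne
  obtain ⟨⟨hindL, hproj, hext⟩, hmax⟩ := hmax
  dsimp only at hindL hproj hext
  suffices hJ : J = Set.univ by
    have h1 : (sSup 𝓛).baseChange S = ⊤ := by
      rw [hext, hJ]; simp only [part, iSup_univ, htop]
    have h2 := eq_top_of_baseChange S h1
    haveI : ∀ C : 𝓛, _root_.Module.Projective R (C : Submodule R M) := fun C => hproj C C.2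
    refine projective_of_isInternal (fun C : 𝓛 => (C : Submodule R M)) ?_
    rw [DirectSum.isInternal_submodule_iff_iSupIndep_and_iSup_eq_top, ← sSup_eq_iSup']
    exact ⟨(sSupIndep_iff _).mp hindL, h2⟩
  by_contra hJ
  obtain ⟨i₀, hi₀⟩ := (Set.ne_univ_iff_exists_notMem J).1 hJ
  obtain ⟨K, t, hK, ht, hi₀K, hKt⟩ := hsat i₀
  let N₀ := sSup 𝓛
  let N₁ := N₀ ⊔ Submodule.span R t
  have hN₁ : N₁.baseChange S = part (J ∪ K) := by
    refine le_antisymm ?_ (iSup₂_le fun i hi => ?_)
    · rw [baseChange_gc, sup_le_iff, ← baseChange_gc, ← baseChange_gc]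
      exact ⟨hext.le.trans (biSup_mono Set.subset_union_left), hKt.le.trans (biSup_mono Set.subset_union_right)⟩
    · rcases hi with hi | hi
      · exact (le_biSup L hi).trans (hext.ge.trans (Submodule.baseChange_mono S le_sup_left))
      · exact (le_biSup L hi).trans (hKt.ge.trans (Submodule.baseChange_mono S le_sup_right))
  let N₀' : Submodule R N₁ := N₀.comap N₁.subtype
  let Q := N₁ ⧸ N₀'
  -- the base change of the quotient is a direct summand of `S ⊗ M`
  haveI hQproj : _root_.Module.Projective S (S ⊗[R] Q) := by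
    have hinj : Function.Injective (N₁.subtype.baseChange S) :=
      _root_.Module.Flat.lTensor_preserves_injective_linearMap N₁.subtype N₁.injective_subtype
    let e : S ⊗[R] N₁ ≃ₗ[S] N₁.baseChange S := LinearEquiv.ofInjective _ hinj
    let q : N₁.baseChange S →ₗ[S] S ⊗[R] Q := N₀'.mkQ.baseChange S ∘ₗ e.symm.toLinearMap
    have hle : part (K \ J) ≤ N₁.baseChange S := by
      rw [hN₁]; exact biSup_mono fun i hi => Or.inr hi.1
    let ψ : part (K \ J) →ₗ[S] S ⊗[R] Q := q ∘ₗ Submodule.inclusion hle
    have hqker : ∀ (y : S ⊗[R] M) (hy : y ∈ N₁.baseChange S), q ⟨y, hy⟩ = 0 ↔ y ∈ N₀.baseChange S := by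
      intro y hy
      obtain ⟨z, hz⟩ := e.surjective ⟨y, hy⟩
      have hz' : N₁.subtype.baseChange S z = y := congrArg Subtype.val hz
      have hq : q ⟨y, hy⟩ = N₀'.mkQ.baseChange S z := by
        show N₀'.mkQ.baseChange S (e.symm ⟨y, hy⟩) = _
        rw [← hz, LinearEquiv.symm_apply_apply]
      have hex := lTensor_exact S (LinearMap.exact_subtype_mkQ N₀') N₀'.mkQ_surjective
      rw [hq, ← hz']
      constructor
      · intro h0
        obtain ⟨w, rfl⟩ := (hex z).mp h0
        have : ∀ w, N₁.subtype.baseChange S (N₀'.subtype.lTensor S w) ∈ N₀.baseChange S := fun w => by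
          induction w using TensorProduct.induction_on with
          | zero => simp
          | add a b ha hb => rw [map_add, map_add]; exact add_mem ha hb
          | tmul a b => exact Submodule.tmul_mem_baseChange_of_mem a b.2
        exact this w
      · intro h0
        obtain ⟨w, hw⟩ := h0
        let i : N₀ →ₗ[R] N₀' := (Submodule.inclusion (le_sup_left : N₀ ≤ N₁)).codRestrict N₀' fun x => x.2
        have hi : z = N₀'.subtype.lTensor S (i.lTensor S w) := by
          refine hinj ?_
          rw [← hw]
          clear hw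
          induction w using TensorProduct.induction_on with
          | zero => simp
          | add a b ha hb => simp only [map_add, ha, hb]
          | tmul a b => rfl
        rw [hi]
        exact hex.apply_apply_eq_zero _
    have hd : Disjoint (part (K \ J)) (part J) :=
      hind.disjoint_biSup_biSup (Set.disjoint_left.mpr fun i hi hiJ => hi.2 hiJ)
    have hψ : Function.Bijective ψ := by
      refine ⟨fun y₁ y₂ h => ?_, fun x => ?_⟩
      · let y : part (K \ J) := y₁ + (-1 : S) • y₂
        have hy : ψ y = 0 := by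
          show ψ (y₁ + (-1 : S) • y₂) = 0
          rw [ψ.map_add, ψ.map_smul, h]
          nth_rewrite 1 [← one_smul S (ψ y₂)]
          rw [← add_smul, add_neg_cancel, zero_smul]
        have h0 := (hqker y (hle y.2)).mp hy
        rw [hext] at h0
        have hy0 : y = 0 := Subtype.ext (Submodule.disjoint_def.mp hd _ y.2 h0)
        calc y₁ = y + (1 : S) • y₂ := by
              show y₁ = y₁ + (-1 : S) • y₂ + (1 : S) • y₂
              rw [add_assoc, ← add_smul, neg_add_cancel, zero_smul, add_zero]
          _ = y₂ := by rw [hy0, zero_add, one_smul]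
      · obtain ⟨z, rfl⟩ := LinearMap.lTensor_surjective S N₀'.mkQ_surjective x
        have hmem : (e z : S ⊗[R] M) ∈ part J ⊔ part (K \ J) := by
          have h1 : part (J ∪ K) ≤ part J ⊔ part (K \ J) := iSup₂_le fun i hi => by
            by_cases hiJ : i ∈ J
            · exact le_sup_of_le_left (le_biSup L hiJ)
            · exact le_sup_of_le_right (le_biSup L (show i ∈ K \ J from ⟨hi.resolve_left hiJ, hiJ⟩))
          exact h1 (hN₁ ▸ (e z).2)
        obtain ⟨a, ha, b, hb, hab⟩ := Submodule.mem_sup.mp hmem
        refine ⟨⟨b, hb⟩, ?_⟩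
        have ha' : a ∈ N₁.baseChange S := by
          rw [hN₁]; exact biSup_mono (f := L) Set.subset_union_left ha
        have hsplit : e z = ⟨a, ha'⟩ + ⟨b, hle hb⟩ := Subtype.ext hab.symm
        show q ⟨b, hle hb⟩ = N₀'.mkQ.baseChange S z
        have : N₀'.mkQ.baseChange S z = q (e z) := by
          show _ = N₀'.mkQ.baseChange S (e.symm (e z))
          rw [LinearEquiv.symm_apply_apply]
        rw [this, hsplit, map_add, (hqker a ha').mpr (hext ▸ ha), zero_add]
    haveI := projective_summand (R := S) (hcompl (K \ J))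
    exact _root_.Module.Projective.of_equiv (LinearEquiv.ofBijective ψ hψ)
  haveI : _root_.Module.Flat R Q := flat_of_baseChange S
  have hQc : CAlg.IsCountablyGenerated R Q := by
    let t' : Set N₁ := N₁.subtype ⁻¹' t
    refine ⟨N₀'.mkQ '' t', (ht.preimage N₁.injective_subtype).image _, ?_⟩
    rw [← Submodule.map_span, eq_top_iff]
    rintro x -
    obtain ⟨⟨y, hy⟩, rfl⟩ := N₀'.mkQ_surjective x
    obtain ⟨a, ha, b, hb, rfl⟩ := Submodule.mem_sup.mp hy
    have hb' : b ∈ (Submodule.span R t').map N₁.subtype := by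
      rw [Submodule.map_span, Set.image_preimage_eq_of_subset]
      · exact hb
      · intro x hx
        exact ⟨⟨x, Submodule.mem_sup_right (Submodule.subset_span hx)⟩, rfl⟩
    obtain ⟨b', hb', rfl⟩ := hb'
    refine ⟨b', hb', ?_⟩
    rw [Submodule.mkQ_apply, Submodule.mkQ_apply, Submodule.Quotient.eq]
    show ((b' : M) - (a + N₁.subtype b')) ∈ N₀
    simpa using neg_mem ha
  haveI : _root_.Module.Projective R Q :=
    Telescope.projective (BaseChange.of_faithfullyFlat S (ml_of_projective (R := S))) hQc
  obtain ⟨σ, hσ⟩ := _root_.Module.projective_lifting_property N₀'.mkQ LinearMap.id N₀'.mkQ_surjective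
  let C : Submodule R M := LinearMap.range (N₁.subtype ∘ₗ σ)
  have hCinj : Function.Injective (N₁.subtype ∘ₗ σ) :=
    N₁.injective_subtype.comp (Function.LeftInverse.injective (g := N₀'.mkQ) (LinearMap.congr_fun hσ))
  have hdisj : Disjoint C N₀ := by
    rw [Submodule.disjoint_def]
    rintro _ ⟨x, rfl⟩ hx
    have : N₀'.mkQ (σ x) = 0 := (Submodule.Quotient.mk_eq_zero _).mpr hx
    have hx0 : x = 0 := (LinearMap.congr_fun hσ x).symm.trans this
    simp [hx0]
  have hsum : C ⊔ N₀ = N₁ := by
    refine le_antisymm (sup_le (by rintro _ ⟨x, rfl⟩; exact (σ x).2) le_sup_left) fun y hy => ?_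
    refine Submodule.mem_sup.mpr ⟨_, ⟨N₀'.mkQ ⟨y, hy⟩, rfl⟩, y - (N₁.subtype ∘ₗ σ) (N₀'.mkQ ⟨y, hy⟩), ?_,
      add_sub_cancel _ _⟩
    have : (⟨y, hy⟩ : N₁) - σ (N₀'.mkQ ⟨y, hy⟩) ∈ N₀' := by
      rw [← Submodule.Quotient.mk_eq_zero, Submodule.Quotient.mk_sub, sub_eq_zero]
      exact (LinearMap.congr_fun hσ _).symm
    exact this
  have hmem : ((J ∪ K, insert C 𝓛) : Set κ × Set (Submodule R M)) ∈ St := by
    refine ⟨LocalAlg.Kaplansky.sSupIndep_insert hindL hdisj, ?_, ?_⟩
    · rintro C' (rfl | hC')
      · exact _root_.Module.Projective.of_equiv (LinearEquiv.ofInjective _ hCinj)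
      · exact hproj C' hC'
    · show (sSup (insert C 𝓛)).baseChange S = part (J ∪ K)
      rw [sSup_insert, hsum, hN₁]
  exact hi₀ ((hmax hmem ⟨Set.subset_union_left, Set.subset_insert _ _⟩).1 (Or.inr hi₀K))

end descent

end Groth.Agent.ML.Projective
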