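import Groth.Agent.ML.Module
import Mathlib.Data.Countable.Basic
import Mathlib.RingTheory.Flat.EquationalCriterion
import Mathlib.Algebra.DirectSum.Module
import Mathlib.Algebra.Module.Projective

/-! Countably generated Mittag-Leffler modules: endomorphisms factoring through finitely presented modules. -/

set_option autoImplicit false

universe u

namespace Groth.Agent.ML.Telescope

open TensorProduct Groth.Agent.ML.Module

variable {R : Type u} [CommRing R] {M : Type u} [AddCommGroup M] [Module R M]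

/-- A finitely presented module over `M`. -/
structure Stage (R : Type u) [CommRing R] (M : Type u) [AddCommGroup M] [Module R M] where
  Q : Type u
  [instA : AddCommGroup Q]
  [instM : Module R Q]
  [instF : Module.FinitePresentation R Q]
  h : Q →ₗ[R] M

attribute [instance] Stage.instA Stage.instM Stage.instF

theorem exists_next (hM : CAlg.IsMittagLeffler R M) (σ : Stage R M) (x : M) :
    ∃ (τ : Stage R M) (u : σ.Q →ₗ[R] τ.Q), τ.h ∘ₗ u = σ.h ∧ x ∈ LinearMap.range τ.h ∧
      ∀ (N : Type u) [AddCommGroup N] [Module R N],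
        LinearMap.ker (σ.h.rTensor N) ≤ LinearMap.ker (u.rTensor N) := by
  obtain ⟨Q, i₁, i₂, i₃, g, h, hgh, hd⟩ := dominate hM (σ.h.coprod (LinearMap.toSpanSingleton R M x))
  refine ⟨⟨Q, h⟩, g ∘ₗ LinearMap.inl R σ.Q R, ?_, ⟨g (0, 1), ?_⟩, fun N _ _ z hz => ?_⟩
  · show h ∘ₗ g ∘ₗ LinearMap.inl R σ.Q R = σ.h
    rw [← LinearMap.comp_assoc, hgh, LinearMap.coprod_inl]
  · show h (g (0, 1)) = x
    rw [← LinearMap.comp_apply h g, hgh]
    simp
  · rw [LinearMap.mem_ker] at hz ⊢
    rw [LinearMap.rTensor_comp_apply, ← LinearMap.mem_ker, ← hd, LinearMap.mem_ker,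
      ← LinearMap.rTensor_comp_apply, LinearMap.coprod_inl, hz]

/-- The extension lemma along a sequence of stages. -/
theorem ext_seq (seq : ℕ → Stage R M) (u : ∀ k, (seq k).Q →ₗ[R] (seq (k + 1)).Q)
    (hu : ∀ k, (seq (k + 1)).h ∘ₗ u k = (seq k).h)
    (hd : ∀ k (N : Type u) [AddCommGroup N] [Module R N],
      LinearMap.ker ((seq k).h.rTensor N) ≤ LinearMap.ker ((u k).rTensor N))
    (hgen : ∀ y : M, ∃ k x, (seq k).h x = y) :
    ∃ b : M →ₗ[R] (seq 1).Q, (seq 1).h ∘ₗ b ∘ₗ (seq 0).h = (seq 0).h := by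
  classical
  have hstep : ∀ k (w : (seq (k + 1)).Q →ₗ[R] (seq 1).Q),
      ∃ w' : (seq (k + 2)).Q →ₗ[R] (seq 1).Q, w' ∘ₗ u (k + 1) ∘ₗ u k = w ∘ₗ u k := by
    intro k w
    refine exists_factor_of_ker_le (u (k + 1) ∘ₗ u k) (w ∘ₗ u k) fun N _ _ z hz => ?_
    rw [LinearMap.mem_ker] at hz ⊢
    have h0 : (seq k).h.rTensor N z = 0 := by
      rw [← hu k, ← hu (k + 1), LinearMap.comp_assoc, LinearMap.rTensor_comp_apply, hz, map_zero]
    rw [LinearMap.rTensor_comp_apply, LinearMap.mem_ker.mp (hd k N (LinearMap.mem_ker.mpr h0)), map_zero]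
  choose wnext hwnext using hstep
  let w : ∀ k, (seq (k + 1)).Q →ₗ[R] (seq 1).Q := fun k =>
    Nat.rec (motive := fun k => (seq (k + 1)).Q →ₗ[R] (seq 1).Q) LinearMap.id (fun k w => wnext k w) k
  let v : ∀ k, (seq k).Q →ₗ[R] (seq 1).Q := fun k => w k ∘ₗ u k
  have hv : ∀ k, v (k + 1) ∘ₗ u k = v k := fun k => hwnext k (w k)
  let G : ℕ → Submodule R (M × (seq 1).Q) := fun k => LinearMap.range ((seq k).h.prod (v k))
  have hG : Monotone G := monotone_nat_of_le_succ fun k => by
    rintro _ ⟨x, rfl⟩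
    exact ⟨u k x, Prod.ext (LinearMap.congr_fun (hu k) x) (LinearMap.congr_fun (hv k) x)⟩
  let p : ↥(⨆ k, G k) →ₗ[R] M := LinearMap.fst R M (seq 1).Q ∘ₗ (⨆ k, G k).subtype
  have hp : Function.Bijective p := by
    refine ⟨(injective_iff_map_eq_zero p).mpr ?_, LinearMap.range_eq_top.mp ?_⟩
    · rintro ⟨y, hy⟩ (h0 : y.1 = 0)
      obtain ⟨k, x, rfl⟩ := (Submodule.mem_iSup_of_directed G hG.directed_le).mp hy
      have h1 : v k x = 0 := by
        have hker : ((seq k).h).rTensor R (x ⊗ₜ[R] (1 : R)) = 0 := by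
          rw [LinearMap.rTensor_tmul, show (seq k).h x = 0 from h0, TensorProduct.zero_tmul]
        have h2 : u k x ⊗ₜ[R] (1 : R) = 0 := by
          rw [← LinearMap.rTensor_tmul]
          exact hd k R (LinearMap.mem_ker.mpr hker)
        have h3 : u k x = 0 := by simpa using congrArg (TensorProduct.rid R _) h2
        simp [v, h3]
      exact Subtype.ext (Prod.ext h0 h1)
    · rw [eq_top_iff]
      rintro y -
      obtain ⟨k, x, rfl⟩ := hgen y
      exact ⟨⟨((seq k).h x, v k x), Submodule.mem_iSup_of_mem k ⟨x, rfl⟩⟩, rfl⟩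
  let b : M →ₗ[R] (seq 1).Q :=
    LinearMap.snd R M _ ∘ₗ (⨆ k, G k).subtype ∘ₗ (LinearEquiv.ofBijective p hp).symm.toLinearMap
  refine ⟨b, LinearMap.ext fun x => ?_⟩
  have hb : b ((seq 0).h x) = v 0 x := by
    have h1 : (LinearEquiv.ofBijective p hp).symm ((seq 0).h x) =
        ⟨((seq 0).h x, v 0 x), Submodule.mem_iSup_of_mem 0 ⟨x, rfl⟩⟩ := by
      rw [LinearEquiv.symm_apply_eq]; rfl
    show ((LinearEquiv.ofBijective p hp).symm ((seq 0).h x)).1.2 = v 0 x
    rw [h1]
  show (seq 1).h (b ((seq 0).h x)) = (seq 0).h x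
  rw [hb]
  exact LinearMap.congr_fun (hu 0) x

/-- An exhausting sequence of stages, each satisfying a given property. -/
theorem exists_seq (hc : CAlg.IsCountablyGenerated R M) (σ : Stage R M) (P : Stage R M → Prop) (hσ : P σ)
    (step : ∀ (τ : Stage R M) (x : M), ∃ (τ' : Stage R M) (u : τ.Q →ₗ[R] τ'.Q), P τ' ∧ τ'.h ∘ₗ u = τ.h ∧
      x ∈ LinearMap.range τ'.h ∧ ∀ (N : Type u) [AddCommGroup N] [Module R N],
        LinearMap.ker (τ.h.rTensor N) ≤ LinearMap.ker (u.rTensor N)) :
    ∃ (seq : ℕ → Stage R M) (u : ∀ k, (seq k).Q →ₗ[R] (seq (k + 1)).Q),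
      seq 0 = σ ∧ (∀ k, P (seq k)) ∧ (∀ k, (seq (k + 1)).h ∘ₗ u k = (seq k).h) ∧
      (∀ k (N : Type u) [AddCommGroup N] [Module R N],
        LinearMap.ker ((seq k).h.rTensor N) ≤ LinearMap.ker ((u k).rTensor N)) ∧
      ∀ y : M, ∃ k x, (seq k).h x = y := by
  classical
  obtain ⟨s, hs, hspan⟩ := hc
  obtain ⟨e, he⟩ : ∃ e : ℕ → M, Submodule.span R (Set.range e) = ⊤ := by
    obtain ⟨e, he⟩ := (hs.insert 0).exists_eq_range (Set.insert_nonempty 0 s)
    exact ⟨e, by rw [← he, Submodule.span_insert_zero, hspan]⟩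
  choose next trans hP htrans hmem hdom using step
  let seq : ℕ → Stage R M := fun k =>
    Nat.rec (motive := fun _ => Stage R M) σ (fun k τ => next τ (e k)) k
  let u : ∀ k, (seq k).Q →ₗ[R] (seq (k + 1)).Q := fun k => trans (seq k) (e k)
  refine ⟨seq, u, rfl, fun k => ?_, fun k => htrans _ _, fun k => hdom _ _, fun y => ?_⟩
  · cases k with
    | zero => exact hσ
    | succ k => exact hP _ _
  have hmono : Monotone fun k => LinearMap.range (seq k).h := monotone_nat_of_le_succ fun k => by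
    rintro _ ⟨x, rfl⟩
    exact ⟨u k x, LinearMap.congr_fun (htrans (seq k) (e k)) x⟩
  have h1 : y ∈ ⨆ k, LinearMap.range (seq k).h := by
    have hle : Submodule.span R (Set.range e) ≤ ⨆ k, LinearMap.range (seq k).h := by
      rw [Submodule.span_le]
      rintro _ ⟨k, rfl⟩
      exact Submodule.mem_iSup_of_mem (k + 1) (hmem _ _)
    exact hle (he ▸ Submodule.mem_top)
  obtain ⟨k, x, hx⟩ := (Submodule.mem_iSup_of_directed _ hmono.directed_le).mp h1
  exact ⟨k, x, hx⟩

/-- The basic extension lemma: there is `b : M → Q'` extending the transition map out of `σ`. -/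
theorem exists_extension (hM : CAlg.IsMittagLeffler R M) (hc : CAlg.IsCountablyGenerated R M)
    (σ : Stage R M) :
    ∃ (τ : Stage R M) (b : M →ₗ[R] τ.Q), τ.h ∘ₗ b ∘ₗ σ.h = σ.h := by
  obtain ⟨seq, u, rfl, -, hu, hd, hgen⟩ := exists_seq hc σ (fun _ => True) trivial fun τ x => by
    obtain ⟨τ', u, h1, h2, h3⟩ := exists_next hM τ x
    exact ⟨τ', u, trivial, h1, h2, h3⟩
  obtain ⟨b, hb⟩ := ext_seq seq u hu hd hgen
  exact ⟨seq 1, b, hb⟩

/-- A countably generated flat Mittag-Leffler module is projective. -/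
theorem projective (hM : CAlg.IsMittagLeffler R M) (hc : CAlg.IsCountablyGenerated R M)
    [Module.Flat R M] : Module.Projective R M := by
  classical
  obtain ⟨seq, u, -, hproj, hu, hd, hgen⟩ :=
    exists_seq hc ⟨Fin 0 → R, 0⟩ (fun τ => Module.Projective R τ.Q)
      (inferInstanceAs (Module.Projective R (Fin 0 → R))) fun τ x => by
    obtain ⟨τ', u, h1, ⟨y, hy⟩, h3⟩ := exists_next hM τ x
    obtain ⟨n, g, h, hgh⟩ := Module.Flat.exists_factorization_of_finitePresentation (M := M) τ'.h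
    refine ⟨⟨Fin n →₀ R, h⟩, g ∘ₗ u, inferInstanceAs (Module.Projective R (Fin n →₀ R)), ?_, ⟨g y, ?_⟩,
      fun N _ _ z hz => ?_⟩
    · show h ∘ₗ g ∘ₗ u = τ.h
      rw [← LinearMap.comp_assoc, ← hgh, h1]
    · show h (g y) = x
      rw [← LinearMap.comp_apply, ← hgh, hy]
    · rw [LinearMap.mem_ker, LinearMap.rTensor_comp_apply, LinearMap.mem_ker.mp (h3 N hz), map_zero]
  have hmono : ∀ k x, x ∈ LinearMap.range (seq k).h → ∀ j, k ≤ j → x ∈ LinearMap.range (seq j).h := by
    intro k x hx j hj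
    induction j, hj using Nat.le_induction with
    | base => exact hx
    | succ j _ ih =>
      obtain ⟨z, rfl⟩ := ih
      exact ⟨u j z, LinearMap.congr_fun (hu j) z⟩
  have hext : ∀ k, ∃ b : M →ₗ[R] (seq (k + 1)).Q,
      (seq (k + 1)).h ∘ₗ b ∘ₗ (seq k).h = (seq k).h := fun k => by
    refine ext_seq (fun j => seq (k + j)) (fun j => u (k + j)) (fun j => hu (k + j))
      (fun j => hd (k + j)) fun y => ?_
    obtain ⟨j, x, rfl⟩ := hgen y
    obtain ⟨x', hx'⟩ := hmono j _ ⟨x, rfl⟩ (k + j) (Nat.le_add_left j k)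
    exact ⟨j, x', hx'⟩
  choose b hb using hext
  let c : ∀ k, M →ₗ[R] (seq (k + 2)).Q := fun k => Nat.rec
    (motive := fun k => M →ₗ[R] (seq (k + 2)).Q) (u 1 ∘ₗ b 0)
    (fun j _ => u (j + 2) ∘ₗ (b (j + 1) - u (j + 1) ∘ₗ b j)) k
  have hker : ∀ k (z : (seq k).Q), (seq k).h z = 0 → u k z = 0 := fun k z hz => by
    have h2 : u k z ⊗ₜ[R] (1 : R) = 0 := by
      rw [← LinearMap.rTensor_tmul]
      refine hd k R (LinearMap.mem_ker.mpr ?_)
      rw [LinearMap.rTensor_tmul, hz, TensorProduct.zero_tmul]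
    simpa using congrArg (TensorProduct.rid R _) h2
  have hbx : ∀ (k : ℕ) (x : M), x ∈ LinearMap.range (seq k).h → (seq (k + 1)).h (b k x) = x := by
    rintro k _ ⟨z, rfl⟩
    exact LinearMap.congr_fun (hb k) z
  have hvanish : ∀ (x : M), ∃ K, ∀ k, K ≤ k → c k x = 0 := by
    intro x
    obtain ⟨K, z, rfl⟩ := hgen x
    refine ⟨K + 1, fun k hk => ?_⟩
    obtain ⟨j, rfl⟩ : ∃ j, k = j + 1 := ⟨k - 1, by omega⟩
    refine hker (j + 2) _ ?_
    rw [LinearMap.sub_apply, map_sub, hbx (j + 1) _ (hmono K _ ⟨z, rfl⟩ _ (by omega)),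
      LinearMap.comp_apply, ← LinearMap.comp_apply (seq (j + 2)).h (u (j + 1)), hu,
      hbx j _ (hmono K _ ⟨z, rfl⟩ _ (by omega)), sub_self]
  let F := Π₀ k, (seq (k + 2)).Q
  choose K hK using hvanish
  let sfun : M → F := fun x => DFinsupp.mk (Finset.range (K x)) fun k => c k x
  have hs : ∀ x k, sfun x k = c k x := fun x k => by
    by_cases h : k ∈ Finset.range (K x)
    · exact DFinsupp.mk_of_mem h
    · exact (DFinsupp.mk_of_notMem h).trans (hK x k (by simpa using h)).symm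
  let s : M →ₗ[R] F :=
    { toFun := sfun
      map_add' := fun x y => DFinsupp.ext fun k => by
        show sfun (x + y) k = sfun x k + sfun y k
        simp [hs]
      map_smul' := fun r x => DFinsupp.ext fun k => by
        show sfun (r • x) k = r • sfun x k
        simp [hs] }
  let p : F →ₗ[R] M := DFinsupp.lsum ℕ fun k => (seq (k + 2)).h
  have hproj' : ∀ k, Module.Projective R (seq (k + 2)).Q := fun k => hproj _
  haveI : Module.Projective R F :=
    inferInstanceAs (Module.Projective R (DirectSum ℕ fun k => (seq (k + 2)).Q))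
  refine Module.Projective.of_split s p (LinearMap.ext fun x => ?_)
  have hsum : ∀ n, ∑ k ∈ Finset.range (n + 1), (seq (k + 2)).h (c k x) = (seq (n + 1)).h (b n x) := by
    intro n
    induction n with
    | zero =>
      refine (Finset.sum_range_one _).trans ?_
      exact LinearMap.congr_fun (hu 1) (b 0 x)
    | succ n ih =>
      rw [Finset.sum_range_succ, ih]
      show (seq (n + 1)).h (b n x) + (seq (n + 3)).h (u (n + 2) (b (n + 1) x - u (n + 1) (b n x))) = _
      rw [← LinearMap.comp_apply (seq (n + 3)).h, hu, map_sub,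
        ← LinearMap.comp_apply (seq (n + 2)).h (u (n + 1)), hu, add_sub_cancel]
  obtain ⟨j, z, hz⟩ := hgen x
  have h1 : x ∈ LinearMap.range (seq (max (K x) j)).h := hmono j x ⟨z, hz⟩ _ (le_max_right _ _)
  show p (sfun x) = x
  conv_rhs => rw [← hbx _ x h1, ← hsum (max (K x) j)]
  have hsf : sfun x = ∑ k ∈ Finset.range (max (K x) j + 1), DFinsupp.single k (c k x) := by
    refine DFinsupp.ext fun k => ?_
    rw [hs, DFinsupp.finsetSum_apply]
    by_cases hk : k ∈ Finset.range (max (K x) j + 1)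
    · rw [Finset.sum_eq_single k (fun i _ hi => DFinsupp.single_eq_of_ne (Ne.symm hi))
        (fun h => absurd hk h), DFinsupp.single_eq_same]
    · rw [Finset.sum_eq_zero fun i hi => DFinsupp.single_eq_of_ne fun (e : k = i) => hk (e ▸ hi)]
      exact hK x k (by simp at hk; omega)
  rw [hsf, map_sum]
  exact Finset.sum_congr rfl fun k _ => by rw [DFinsupp.lsum_single]

end Groth.Agent.ML.Telescope
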